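import Mathlib
import Groth.Agent.IsocLib.BlockDiag

/-! The norm of a finite product of algebras, and of scalar plus nilpotent. -/

universe u

namespace Groth.Agent.NormPi15

variable {k : Type u} [Field k]

theorem norm_pi {ι : Type*} [Fintype ι] [DecidableEq ι] (B : ι → Type u) [∀ i, CommRing (B i)]
    [∀ i, Algebra k (B i)] [∀ i, Module.Finite k (B i)] (x : ∀ i, B i) :
    Algebra.norm k x = ∏ i, Algebra.norm k (x i) := by
  classical
  let b := fun i => Module.Free.chooseBasis k (B i)
  rw [Algebra.norm_eq_matrix_det (Pi.basis b),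
    Finset.prod_congr rfl fun i _ => Algebra.norm_eq_matrix_det (b i) (x i), ← Groth.Agent.IsocLib.det_blockDiagonal']
  congr 1
  ext ⟨i, a⟩ ⟨j, c⟩
  rw [Algebra.leftMulMatrix_eq_repr_mul, Pi.basis_apply, Pi.basis_repr]
  by_cases h : i = j
  · subst h
    rw [Matrix.blockDiagonal'_apply_eq, Algebra.leftMulMatrix_eq_repr_mul, Pi.mul_apply,
      Pi.single_eq_same]
  · rw [Matrix.blockDiagonal'_apply_ne _ _ _ h, Pi.mul_apply, Pi.single_eq_of_ne h, mul_zero, map_zero]
    rfl

theorem norm_scalar_add_nilpotent {B : Type u} [CommRing B] [Algebra k B] [Module.Finite k B]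
    (c : k) {n : B} (hn : IsNilpotent n) :
    Algebra.norm k (algebraMap k B c + n) = c ^ Module.finrank k B := by
  have h : IsNilpotent (Algebra.lmul k B (-n)) := hn.neg.map _
  rw [Algebra.norm_apply]
  have h2 := LinearMap.eval_charpoly (Algebra.lmul k B (-n)) c
  rw [IsNilpotent.charpoly_eq_X_pow_finrank h, Polynomial.eval_pow, Polynomial.eval_X] at h2
  rw [h2]
  congr 1
  rw [map_add, AlgHom.commutes, map_neg, sub_neg_eq_add]

end Groth.Agent.NormPi15
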